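import Groth.Agent.Lib.TorsionExt.Basic
import Groth.Agent.Lib.ExtAdj.Basic
import Groth.Agent.Lib.DCxRing.BC
import Groth.Agent.Lib.LocZ.Excision
import Mathlib.Algebra.Category.ModuleCat.ChangeOfRings

/-!
# `Ext` out of torsion modules along a flat ring map which is bijective modulo the ideal
-/

set_option autoImplicit false
universe u

open CategoryTheory CategoryTheory.Limits CategoryTheory.Abelian
open scoped TensorProduct

namespace GrothLib.TorExt

variable {A B : Type u} [CommRing A] [CommRing B] (φ : A →+* B)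

/-- Extension followed by restriction of scalars. -/
noncomputable abbrev bcT : ModuleCat.{u} A ⥤ ModuleCat.{u} A :=
  ModuleCat.extendScalars.{u, u, u} φ ⋙ ModuleCat.restrictScalars.{u, u, u} φ

/-- `n ↦ 1 ⊗ n`. -/
noncomputable abbrev bcη : 𝟭 (ModuleCat.{u} A) ⟶ bcT φ := (ModuleCat.extendRestrictScalarsAdj φ).unit

theorem bcT_map_smul_id (f : A) (N : ModuleCat.{u} A) :
    (bcT φ).map (f • 𝟙 N) = f • 𝟙 ((bcT φ).obj N) := by
  algebraize [φ]
  have key : ∀ (b : B) (n : N), b ⊗ₜ[A] (f • n) = (φ f * b) ⊗ₜ[A] n :=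
    fun b n => (TensorProduct.smul_tmul f b n).symm
  refine ModuleCat.hom_ext (LinearMap.ext fun x => ?_)
  induction x using TensorProduct.induction_on with
  | zero => exact (map_zero _).trans (map_zero _).symm
  | tmul b n =>
    exact key b n
  | add x y hx hy => exact (map_add _ x y).trans ((congrArg₂ (· + ·) hx hy).trans (map_add _ x y).symm)

variable {I : Ideal A}

theorem isIso_bcη_of_killed
    (hs : Function.Surjective ((Ideal.Quotient.mk (I.map φ)).comp φ))
    (hk : RingHom.ker ((Ideal.Quotient.mk (I.map φ)).comp φ) = I)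
    (N : ModuleCat.{u} A) (hN : Killed (I : Set A) N) : IsIso ((bcη φ).app N) := by
  algebraize [φ]
  have hbij : Function.Bijective fun n : N => (1 : B) ⊗ₜ[A] n := by
    obtain ⟨a, ha⟩ : ∃ a : B → A, ∀ b, Ideal.Quotient.mk (I.map φ) (φ (a b)) = Ideal.Quotient.mk (I.map φ) b :=
      ⟨fun b => (hs (Ideal.Quotient.mk _ b)).choose, fun b => (hs (Ideal.Quotient.mk _ b)).choose_spec⟩
    have hu : ∀ (b : B) (a' : A), Ideal.Quotient.mk (I.map φ) (φ a') = Ideal.Quotient.mk (I.map φ) b →
        ∀ n : N, a b • n = a' • n := by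
      intro b a' h n
      have h' : a b - a' ∈ I := by
        rw [← hk]
        change Ideal.Quotient.mk (I.map φ) (φ (a b - a')) = 0
        rw [map_sub, map_sub, ha, h, sub_self]
      exact sub_eq_zero.1 ((sub_smul _ _ _).symm.trans (hN _ h' n))
    let β : B →ₗ[A] N →ₗ[A] N := LinearMap.mk₂ A (fun b n => a b • n)
      (fun b b' n => by
        rw [← add_smul]; exact hu _ _ (by rw [map_add, map_add, ha, ha, map_add]) n)
      (fun c b n => by
        rw [← mul_smul]
        exact hu _ _ (by rw [map_mul, map_mul, ha, ← map_mul]; rfl) n)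
      (fun b n n' => smul_add _ _ _)
      (fun c b n => smul_comm _ _ _)
    have h0 : ∀ x ∈ I.map φ, ∀ n : N, x ⊗ₜ[A] n = 0 := by
      intro x hx
      induction hx using Submodule.span_induction with
      | mem x hx =>
        obtain ⟨i, hi, rfl⟩ := hx
        intro n
        rw [show φ i = i • (1 : B) from (mul_one (φ i)).symm, TensorProduct.smul_tmul, hN i hi, TensorProduct.tmul_zero]
      | zero => exact fun n => TensorProduct.zero_tmul _ _
      | add x y _ _ hx hy => exact fun n => by rw [TensorProduct.add_tmul, hx, hy, add_zero]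
      | smul c x _ hx =>
        intro n
        have := congrArg (TensorProduct.map (LinearMap.mulLeft A c) LinearMap.id) (hx n)
        rwa [TensorProduct.map_tmul, map_zero] at this
    refine ⟨fun n n' h => ?_, fun x => ?_⟩
    · have h' := congrArg (TensorProduct.lift β) h
      simp only [TensorProduct.lift.tmul] at h'
      change a 1 • n = a 1 • n' at h'
      rwa [hu 1 1 (by rw [map_one φ]), hu 1 1 (by rw [map_one φ]), one_smul, one_smul] at h'
    · induction x using TensorProduct.induction_on with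
      | zero => exact ⟨0, TensorProduct.tmul_zero _ _⟩
      | tmul b n =>
        refine ⟨a b • n, ?_⟩
        have h := h0 (b - φ (a b)) (Ideal.Quotient.eq.1 (ha b).symm) n
        rw [TensorProduct.sub_tmul, sub_eq_zero] at h
        rw [h, show φ (a b) = a b • (1 : B) from (mul_one (φ (a b))).symm, TensorProduct.smul_tmul]
      | add x y hx hy =>
        obtain ⟨p, rfl⟩ := hx
        obtain ⟨q, rfl⟩ := hy
        exact ⟨p + q, TensorProduct.tmul_add _ _ _⟩
  exact (ConcreteCategory.isIso_iff_bijective _).2 hbij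

variable (hφ : φ.Flat)
include hφ

theorem preservesFiniteLimits_bcT : PreservesFiniteLimits (bcT φ) :=
  have := DR.preservesFiniteLimits_extendScalars φ hφ
  comp_preservesFiniteLimits _ _

omit hφ in
theorem preservesFiniteColimits_bcT : PreservesFiniteColimits (bcT φ) :=
  comp_preservesFiniteColimits _ _

theorem isIso_bcη_of_killed_pow
    (hs : Function.Surjective ((Ideal.Quotient.mk (I.map φ)).comp φ))
    (hk : RingHom.ker ((Ideal.Quotient.mk (I.map φ)).comp φ) = I) :
    ∀ (k : ℕ) (N : ModuleCat.{u} A), Killed (↑(I ^ k) : Set A) N → IsIso ((bcη φ).app N) := by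
  have := preservesFiniteLimits_bcT φ hφ
  have := preservesFiniteColimits_bcT φ
  intro k
  induction k with
  | zero =>
    intro N hN
    refine isIso_bcη_of_killed φ hs hk N fun g _ x => ?_
    rw [show x = 0 from (one_smul A x).symm.trans (hN 1 (by simp) x), smul_zero]
  | succ k ih =>
    intro N hN
    let N' : Submodule A N := I • ⊤
    let S : ShortComplex (ModuleCat.{u} A) := ShortComplex.mk (ModuleCat.ofHom N'.subtype : _ ⟶ N)
      (ModuleCat.ofHom N'.mkQ) (ModuleCat.hom_ext (LinearMap.ext fun x => (Submodule.Quotient.mk_eq_zero _).2 x.2))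
    have hS : S.ShortExact :=
      { exact := (ShortComplex.ShortExact.moduleCat_exact_iff_function_exact _).2 fun x =>
          ⟨fun h => ⟨⟨x, (Submodule.Quotient.mk_eq_zero _).1 h⟩, rfl⟩,
            by rintro ⟨y, rfl⟩; exact (Submodule.Quotient.mk_eq_zero _).2 y.2⟩
        mono_f := (ModuleCat.mono_iff_injective _).2 (Submodule.subtype_injective _)
        epi_g := (ModuleCat.epi_iff_surjective _).2 (Submodule.mkQ_surjective _) }
    let ψ : S ⟶ S.map (bcT φ) :=
      { τ₁ := (bcη φ).app S.X₁
        τ₂ := (bcη φ).app S.X₂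
        τ₃ := (bcη φ).app S.X₃
        comm₁₂ := ((bcη φ).naturality S.f).symm
        comm₂₃ := ((bcη φ).naturality S.g).symm }
    have : IsIso ψ.τ₁ := ih S.X₁ fun g hg x => by
      apply Subtype.ext
      change g • (x : N) = 0
      refine Submodule.smul_induction_on x.2 (fun i hi n _ => ?_) fun p q hp hq => by rw [smul_add, hp, hq, add_zero]
      rw [← mul_smul]
      exact hN _ (by rw [pow_succ]; exact Ideal.mul_mem_mul hg hi) n
    have : IsIso ψ.τ₃ := isIso_bcη_of_killed φ hs hk S.X₃ fun g hg x => by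
      obtain ⟨x, rfl⟩ := Submodule.Quotient.mk_surjective _ x
      exact (Submodule.Quotient.mk_smul _ g x).symm.trans
        ((Submodule.Quotient.mk_eq_zero _).2 (Submodule.smul_mem_smul hg trivial))
    exact ShortComplex.isIso₂_of_shortExact_of_isIso₁₃ ψ hS (hS.map_of_exact _)

omit hφ in
/-- The short exact sequence of a surjection. -/
theorem exists_kerSES {P M : ModuleCat.{u} A} (q : P ⟶ M) (hq : Function.Surjective q.hom) :
    ∃ S : ShortComplex (ModuleCat.{u} A), S.ShortExact ∧ S.X₃ = M ∧ S.X₂ = P ∧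
      ∃ j : S.X₁ →ₗ[A] P, Function.Injective j := by
  let S : ShortComplex (ModuleCat.{u} A) := ShortComplex.mk
    (ModuleCat.ofHom (LinearMap.ker q.hom).subtype : _ ⟶ P) q (ModuleCat.hom_ext (LinearMap.ext fun x => x.2))
  refine ⟨S, ?_, rfl, rfl, (LinearMap.ker q.hom).subtype, Submodule.subtype_injective _⟩
  exact { exact := (ShortComplex.ShortExact.moduleCat_exact_iff_function_exact _).2 fun x =>
            ⟨fun h => ⟨⟨x, h⟩, rfl⟩, by rintro ⟨y, rfl⟩; exact y.2⟩
          mono_f := (ModuleCat.mono_iff_injective _).2 (Submodule.subtype_injective _)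
          epi_g := (ModuleCat.epi_iff_surjective _).2 hq }

theorem bijective_bc_of_isPowerTorsion (hI : I.FG)
    (hs : Function.Surjective ((Ideal.Quotient.mk (I.map φ)).comp φ))
    (hk : RingHom.ker ((Ideal.Quotient.mk (I.map φ)).comp φ) = I)
    (M N : ModuleCat.{u} A) (hM : ∀ m : M, ∃ k : ℕ, ∀ a ∈ I ^ k, a • m = 0) (n : ℕ) :
    Function.Bijective (Φ (bcT φ) (bcη φ) M N n) := by
  classical
  have := preservesFiniteLimits_bcT φ hφ
  have := preservesFiniteColimits_bcT φ
  refine bijective_of_cover (bcT φ) (bcη φ) (fun M => ∀ m : M, ∃ k : ℕ, ∀ a ∈ I ^ k, a • m = 0) N ?_ n M hM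
  intro M hM
  choose k hk' using hM
  let F : M → Type u := fun m => A ⧸ I ^ k m
  let P : ModuleCat.{u} A := ModuleCat.of A (DirectSum M F)
  let q : P ⟶ M := ModuleCat.ofHom (DirectSum.toModule A M M fun m =>
    Submodule.liftQ (I ^ k m) (LinearMap.toSpanSingleton A M m) fun a ha => hk' m a ha)
  let p : P →ₗ[A] M := q.hom
  have hp : Function.Surjective p := fun m =>
    ⟨DirectSum.lof A M F m (Ideal.Quotient.mk _ 1),
      (DirectSum.toModule_lof A m _).trans (one_smul A m)⟩
  obtain ⟨S, hS, hS₃, hS₂, j₁, hj₁⟩ := exists_kerSES q hp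
  refine ⟨S, hS, hS₃, fun x => ?_, fun t => hS₂ ▸ bijective_directSum (bcT φ) (bcη φ) F N t fun m => ?_⟩
  · obtain ⟨j, hj⟩ : ∃ j, ∀ a ∈ I ^ j, a • (j₁ x : DirectSum M F) = 0 := by
      generalize (j₁ x : DirectSum M F) = y
      induction y using DirectSum.induction_on with
      | zero => exact ⟨0, fun a _ => smul_zero a⟩
      | of m z =>
        refine ⟨k m, fun a ha => ?_⟩
        change a • DirectSum.lof A M F m z = 0
        obtain ⟨z, rfl⟩ := Ideal.Quotient.mk_surjective z
        rw [← map_smul, show a • Ideal.Quotient.mk (I ^ k m) z = 0 from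
          (Ideal.Quotient.eq_zero_iff_mem).2 (Ideal.mul_mem_right z _ ha), map_zero]
      | add y z hy hz =>
        obtain ⟨i, hi⟩ := hy
        obtain ⟨j, hj⟩ := hz
        exact ⟨i + j, fun a ha => by
          rw [smul_add, hi a (Ideal.pow_le_pow_right (by omega) ha), hj a (Ideal.pow_le_pow_right (by omega) ha),
            add_zero]⟩
    exact ⟨j, fun a ha => hj₁ ((map_smul j₁ a x).trans ((hj a ha).trans (map_zero j₁).symm))⟩
  · obtain ⟨G, hG⟩ := Ideal.FG.pow (n := k m) hI
    refine bijective_of_killed (bcT φ) (bcη φ) (bcT_map_smul_id φ) G (fun g hg z => ?_) (fun L hL => ?_) N t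
    · obtain ⟨z, rfl⟩ := Ideal.Quotient.mk_surjective z
      exact (Ideal.Quotient.eq_zero_iff_mem).2
        (Ideal.mul_mem_right z _ (hG ▸ Submodule.subset_span hg))
    · refine isIso_bcη_of_killed_pow φ hφ hs hk (k m) L fun g hg x => ?_
      have hle : I ^ k m ≤ Module.annihilator A L := by
        rw [← hG, Submodule.span_le]
        exact fun g hg => Module.mem_annihilator.2 fun x => hL g hg x
      exact Module.mem_annihilator.1 (hle hg) x

/-- `Ext` of a torsion module is unchanged by such a base change. -/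
theorem nonempty_ext_extendScalars (hI : I.FG)
    (hs : Function.Surjective ((Ideal.Quotient.mk (I.map φ)).comp φ))
    (hk : RingHom.ker ((Ideal.Quotient.mk (I.map φ)).comp φ) = I)
    (M N : ModuleCat.{u} A) (hM : ∀ m : M, ∃ k : ℕ, ∀ a ∈ I ^ k, a • m = 0) (n : ℕ) :
    Nonempty (Ext.{u} M N n ≃+ Ext.{u} ((ModuleCat.extendScalars.{u, u, u} φ).obj M)
      ((ModuleCat.extendScalars.{u, u, u} φ).obj N) n) := by
  have := DR.preservesFiniteLimits_extendScalars φ hφ
  exact ⟨(AddEquiv.ofBijective _ (bijective_bc_of_isPowerTorsion φ hφ hI hs hk M N hM n)).trans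
    (AddEquiv.ofBijective _ (GrothLib.ExtAdj.bijective_adjMap (ModuleCat.extendRestrictScalarsAdj φ) M n
      ((ModuleCat.extendScalars.{u, u, u} φ).obj N)
      (fun q => GrothLib.LocZ.isZero_rightDerived_exact (ModuleCat.restrictScalars.{u, u, u} φ) _ q)))⟩

end GrothLib.TorExt
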