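import Mathlib.Algebra.Category.ModuleCat.Ext.HasExt
import Mathlib.Algebra.Category.ModuleCat.Abelian
import Mathlib.Algebra.Category.ModuleCat.Injective
import Mathlib.Algebra.Category.ModuleCat.EnoughInjectives
import Mathlib.Algebra.Homology.DerivedCategory.Ext.EnoughInjectives
import Mathlib.Algebra.Homology.DerivedCategory.Ext.Linear
import Mathlib.Algebra.Homology.DerivedCategory.Ext.Map
import Mathlib.Algebra.DirectSum.Module
import Mathlib.Algebra.Homology.ShortComplex.ModuleCat

/-!
# `Ext` out of torsion modules is insensitive to an exact functor which fixes torsion modules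

For an exact `A`-linear endofunctor `T` with a natural map `η : 𝟭 ⟶ T`, invertible on the modules
killed by a finite set of scalars, `Ext^i(X, N) → Ext^i(X, T N)` is bijective when those scalars kill `X`.
-/

set_option autoImplicit false
universe u

open CategoryTheory CategoryTheory.Limits CategoryTheory.Abelian

namespace GrothLib.TorExt

variable {A : Type u} [CommRing A]

/-- Scalar killing a module. -/
def Killed (S : Set A) (N : ModuleCat.{u} A) : Prop := ∀ g ∈ S, ∀ x : N, g • x = 0

theorem comp_smul_id_eq_zero {X N : ModuleCat.{u} A} {f : A} (hX : ∀ x : X, f • x = 0) {n : ℕ}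
    (e : Ext.{u} X N n) : e.comp (Ext.mk₀ (f • 𝟙 N)) (add_zero n) = 0 := by
  rw [← Ext.smul_eq_comp_mk₀]
  have h0 : f • 𝟙 X = 0 := ModuleCat.hom_ext (LinearMap.ext hX)
  calc f • e = f • ((Ext.mk₀ (𝟙 X)).comp e (zero_add n)) := by rw [Ext.mk₀_id_comp]
    _ = (f • Ext.mk₀ (𝟙 X)).comp e (zero_add n) := (Ext.smul_comp _ _ _ _).symm
    _ = 0 := by rw [← Ext.mk₀_smul, h0, Ext.mk₀_zero, Ext.zero_comp]

/-- Kernel of a scalar. -/
noncomputable abbrev kerSeq (f : A) (N : ModuleCat.{u} A) : ShortComplex (ModuleCat.{u} A) :=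
  ShortComplex.mk (ModuleCat.ofHom (LinearMap.ker (LinearMap.lsmul A N f)).subtype : _ ⟶ N)
    (ModuleCat.ofHom (LinearMap.lsmul A N f).rangeRestrict)
    (ModuleCat.hom_ext (LinearMap.ext fun x => Subtype.ext x.2))

/-- Cokernel of a scalar. -/
noncomputable abbrev cokerSeq (f : A) (N : ModuleCat.{u} A) : ShortComplex (ModuleCat.{u} A) :=
  ShortComplex.mk (ModuleCat.ofHom (LinearMap.range (LinearMap.lsmul A N f)).subtype : _ ⟶ N)
    (ModuleCat.ofHom (LinearMap.range (LinearMap.lsmul A N f)).mkQ)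
    (ModuleCat.hom_ext (LinearMap.ext fun x => (Submodule.Quotient.mk_eq_zero _).2 x.2))

theorem kerSeq_shortExact (f : A) (N : ModuleCat.{u} A) : (kerSeq f N).ShortExact where
  exact := (ShortComplex.ShortExact.moduleCat_exact_iff_function_exact _).2 fun x =>
    ⟨fun h => ⟨⟨x, congrArg Subtype.val h⟩, rfl⟩, by rintro ⟨y, rfl⟩; exact Subtype.ext y.2⟩
  mono_f := (ModuleCat.mono_iff_injective _).2 (Submodule.subtype_injective _)
  epi_g := (ModuleCat.epi_iff_surjective _).2 (LinearMap.surjective_rangeRestrict _)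

theorem cokerSeq_shortExact (f : A) (N : ModuleCat.{u} A) : (cokerSeq f N).ShortExact where
  exact := (ShortComplex.ShortExact.moduleCat_exact_iff_function_exact _).2 fun x =>
    ⟨fun h => ⟨⟨x, (Submodule.Quotient.mk_eq_zero _).1 h⟩, rfl⟩,
      by rintro ⟨y, rfl⟩; exact (Submodule.Quotient.mk_eq_zero _).2 y.2⟩
  mono_f := (ModuleCat.mono_iff_injective _).2 (Submodule.subtype_injective _)
  epi_g := (ModuleCat.epi_iff_surjective _).2 (Submodule.mkQ_surjective _)

theorem kerSeq_g_comp_cokerSeq_f (f : A) (N : ModuleCat.{u} A) :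
    (kerSeq f N).g ≫ (cokerSeq f N).f = f • 𝟙 N :=
  ModuleCat.hom_ext (LinearMap.ext fun _ => rfl)

variable (T : ModuleCat.{u} A ⥤ ModuleCat.{u} A) (η : 𝟭 (ModuleCat.{u} A) ⟶ T)

/-- The map induced by `η` on `Ext`. -/
noncomputable def Φ (X N : ModuleCat.{u} A) (n : ℕ) : Ext.{u} X N n →+ Ext.{u} X (T.obj N) n :=
  (Ext.mk₀ (η.app N)).postcomp X (add_zero n)

theorem Φ_apply (X N : ModuleCat.{u} A) {n : ℕ} (e : Ext.{u} X N n) :
    Φ T η X N n e = e.comp (Ext.mk₀ (η.app N)) (add_zero n) := rfl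

theorem Φ_comp_mk₀ (X : ModuleCat.{u} A) {N N' : ModuleCat.{u} A} (g : N ⟶ N') {n : ℕ}
    (e : Ext.{u} X N n) : Φ T η X N' n (e.comp (Ext.mk₀ g) (add_zero n)) =
      (Φ T η X N n e).comp (Ext.mk₀ (T.map g)) (add_zero n) := by
  rw [Φ_apply, Φ_apply, Ext.comp_assoc_of_second_deg_zero, Ext.comp_assoc_of_second_deg_zero,
    Ext.mk₀_comp_mk₀, Ext.mk₀_comp_mk₀]
  exact congrArg (fun m => e.comp (Ext.mk₀ m) (add_zero n)) (η.naturality g)

theorem Φ_precomp {X X' : ModuleCat.{u} A} {a : ℕ} (α : Ext.{u} X' X a) (N : ModuleCat.{u} A) {n m : ℕ}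
    (h : a + n = m) (e : Ext.{u} X N n) : Φ T η X' N m (α.comp e h) = α.comp (Φ T η X N n e) h :=
  Ext.comp_assoc_of_third_deg_zero _ _ _ _

variable [T.Additive] [PreservesFiniteLimits T] [PreservesFiniteColimits T]

theorem Φ_extClass (X : ModuleCat.{u} A) {S : ShortComplex (ModuleCat.{u} A)} (hS : S.ShortExact) {n : ℕ}
    (e : Ext.{u} X S.X₃ n) : Φ T η X S.X₁ (n + 1) (e.comp hS.extClass rfl) =
      (Φ T η X S.X₃ n e).comp (hS.map_of_exact T).extClass rfl := by
  let φ : S ⟶ S.map T :=
    { τ₁ := η.app S.X₁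
      τ₂ := η.app S.X₂
      τ₃ := η.app S.X₃
      comm₁₂ := (η.naturality S.f).symm
      comm₂₃ := (η.naturality S.g).symm }
  rw [Φ_apply, Φ_apply, Ext.comp_assoc_of_third_deg_zero]
  exact (congrArg (fun m => e.comp m rfl) (hS.extClass_naturality (hS.map_of_exact T) φ)).trans
    (Ext.comp_assoc_of_second_deg_zero _ _ _ _).symm

variable (hT : ∀ (f : A) (N : ModuleCat.{u} A), T.map (f • 𝟙 N) = f • 𝟙 (T.obj N))

include hT in
/-- The dévissage step along one scalar killing `X`. -/
theorem bijective_step {X : ModuleCat.{u} A} {f : A} (hX : ∀ x : X, f • x = 0) (S : Set A)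
    (h : ∀ N, Killed (insert f S) N → ∀ n, Function.Bijective (Φ T η X N n)) :
    ∀ (n : ℕ) (N : ModuleCat.{u} A), Killed S N → Function.Bijective (Φ T η X N n) := by
  have hker : ∀ N, Killed S N → Killed (insert f S) (kerSeq f N).X₁ := by
    intro N hN g hg x
    apply Subtype.ext
    rcases hg with rfl | hg
    · exact x.2
    · exact hN g hg _
  have hmid : ∀ N, Killed S N → Killed S (kerSeq f N).X₃ := fun N hN g hg x => Subtype.ext (hN g hg _)
  have hcok : ∀ N, Killed S N → Killed (insert f S) (cokerSeq f N).X₃ := by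
    intro N hN g hg x
    obtain ⟨x, rfl⟩ := Submodule.Quotient.mk_surjective _ x
    refine (Submodule.Quotient.mk_smul _ g x).symm.trans ((Submodule.Quotient.mk_eq_zero _).2 ?_)
    rcases hg with rfl | hg
    · exact ⟨x, rfl⟩
    · rw [hN g hg x]; exact zero_mem _
  have hTf : ∀ N : ModuleCat.{u} A, T.map (kerSeq f N).g ≫ T.map (cokerSeq f N).f = f • 𝟙 (T.obj N) :=
    fun N => (T.map_comp _ _).symm.trans ((congrArg T.map (kerSeq_g_comp_cokerSeq_f f N)).trans (hT f N))
  intro n
  induction n using Nat.strong_induction_on with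
  | _ n ih =>
    intro N hN
    have h₁ := kerSeq_shortExact f N
    have h₂ := cokerSeq_shortExact f N
    refine ⟨(injective_iff_map_eq_zero _).2 fun x hx => ?_, fun v => ?_⟩
    · have hyι : (x.comp (Ext.mk₀ (kerSeq f N).g) (add_zero n)).comp (Ext.mk₀ (cokerSeq f N).f) (add_zero n) = 0 := by
        rw [Ext.comp_assoc_of_second_deg_zero, Ext.mk₀_comp_mk₀, kerSeq_g_comp_cokerSeq_f,
          comp_smul_id_eq_zero hX]
      have hy : x.comp (Ext.mk₀ (kerSeq f N).g) (add_zero n) = 0 := by
        have hηy : Φ T η X (kerSeq f N).X₃ n (x.comp (Ext.mk₀ (kerSeq f N).g) (add_zero n)) = 0 := by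
          exact (Φ_comp_mk₀ T η X _ x).trans ((congrArg (fun m => Ext.comp m (Ext.mk₀ (T.map (kerSeq f N).g)) (add_zero n)) hx).trans (Ext.zero_comp _ _ _ _ _))
        cases n with
        | zero =>
          have := h₂.mono_f
          exact Ext.postcomp_mk₀_injective_of_mono X (cokerSeq f N).f (hyι.trans (map_zero _).symm)
        | succ k =>
          obtain ⟨w, hw⟩ := Ext.covariant_sequence_exact₁ X h₂ _ hyι rfl
          have h0 : (Φ T η X (cokerSeq f N).X₃ k w).comp (h₂.map_of_exact T).extClass rfl = 0 :=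
            (Φ_extClass T η X h₂ w).symm.trans ((congrArg _ hw).trans hηy)
          obtain ⟨v', hv'⟩ := Ext.covariant_sequence_exact₃ _ (h₂.map_of_exact T) _ rfl h0
          obtain ⟨v, rfl⟩ := (ih k k.lt_succ_self N hN).2 v'
          have hwv : w = v.comp (Ext.mk₀ (cokerSeq f N).g) (add_zero k) :=
            (h _ (hcok N hN) k).1 (hv'.symm.trans (Φ_comp_mk₀ T η X (cokerSeq f N).g v).symm)
          rw [← hw, hwv]
          refine (Ext.comp_assoc_of_second_deg_zero v (Ext.mk₀ (cokerSeq f N).g) h₂.extClass rfl).trans ?_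
          exact (congrArg (fun m => Ext.comp v m rfl) h₂.comp_extClass).trans (Ext.comp_zero _ _ _ _ _)
      obtain ⟨z, rfl⟩ := Ext.covariant_sequence_exact₂ X h₁ x hy
      have hz : (Φ T η X (kerSeq f N).X₁ n z).comp (Ext.mk₀ ((kerSeq f N).map T).f) (add_zero n) = 0 :=
        (Φ_comp_mk₀ T η X (kerSeq f N).f z).symm.trans hx
      have : z.comp (Ext.mk₀ (kerSeq f N).f) (add_zero n) = 0 := by
        cases n with
        | zero =>
          have := (h₁.map_of_exact T).mono_f
          have h0 := Ext.postcomp_mk₀_injective_of_mono X ((kerSeq f N).map T).f (hz.trans (map_zero _).symm)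
          rw [(h _ (hker N hN) 0).1 (h0.trans (map_zero _).symm), Ext.zero_comp]
        | succ k =>
          obtain ⟨w', hw'⟩ := Ext.covariant_sequence_exact₁ X (h₁.map_of_exact T) _ hz rfl
          obtain ⟨v, hv⟩ := (ih k k.lt_succ_self (kerSeq f N).X₃ (hmid N hN)).2 w'
          subst hv
          rw [← (h _ (hker N hN) (k + 1)).1 ((Φ_extClass T η X h₁ v).trans hw')]
          refine (Ext.comp_assoc _ _ _ rfl rfl rfl).trans ?_
          exact (congrArg (fun m => Ext.comp v m rfl) h₁.extClass_comp).trans (Ext.comp_zero _ _ _ _ _)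
      exact this
    · have htι : (v.comp (Ext.mk₀ (T.map (kerSeq f N).g)) (add_zero n)).comp
          (Ext.mk₀ (T.map (cokerSeq f N).f)) (add_zero n) = 0 := by
        rw [Ext.comp_assoc_of_second_deg_zero, Ext.mk₀_comp_mk₀]
        exact (congrArg (fun m => v.comp (Ext.mk₀ m) (add_zero n)) (hTf N)).trans (comp_smul_id_eq_zero hX v)
      obtain ⟨t₀, ht₀⟩ : ∃ t₀, Φ T η X (kerSeq f N).X₃ n t₀ = v.comp (Ext.mk₀ (T.map (kerSeq f N).g)) (add_zero n) := by
        cases n with
        | zero =>
          have := (h₂.map_of_exact T).mono_f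
          exact ⟨0, (map_zero _).trans
            (Ext.postcomp_mk₀_injective_of_mono X ((cokerSeq f N).map T).f (htι.trans (map_zero _).symm)).symm⟩
        | succ k =>
          obtain ⟨w, hw⟩ := Ext.covariant_sequence_exact₁ X (h₂.map_of_exact T) _ htι rfl
          obtain ⟨w, rfl⟩ := (h _ (hcok N hN) k).2 w
          exact ⟨w.comp h₂.extClass rfl, (Φ_extClass T η X h₂ w).trans hw⟩
      have h3 : t₀.comp h₁.extClass rfl = 0 := by
        apply (h _ (hker N hN) (n + 1)).1
        refine (Φ_extClass T η X h₁ t₀).trans ?_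
        refine (congrArg (fun m => m.comp (h₁.map_of_exact T).extClass rfl) ht₀).trans ?_
        refine (Ext.comp_assoc_of_second_deg_zero v (Ext.mk₀ ((kerSeq f N).map T).g) _ rfl).trans ?_
        exact ((congrArg (fun m => Ext.comp v m rfl) (h₁.map_of_exact T).comp_extClass).trans
          (Ext.comp_zero _ _ _ _ _)).trans (map_zero _).symm
      obtain ⟨s, rfl⟩ := Ext.covariant_sequence_exact₃ _ h₁ t₀ rfl h3
      let d : Ext.{u} X ((kerSeq f N).map T).X₂ n := v - Φ T η X N n s
      have hd : d.comp (Ext.mk₀ ((kerSeq f N).map T).g) (add_zero n) = 0 := by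
        refine (map_sub ((Ext.mk₀ ((kerSeq f N).map T).g).postcomp X (add_zero n)) v (Φ T η X N n s)).trans ?_
        exact sub_eq_zero.2 ((ht₀.symm.trans (Φ_comp_mk₀ T η X (kerSeq f N).g s)))
      obtain ⟨z, hz⟩ := Ext.covariant_sequence_exact₂ X (h₁.map_of_exact T) d hd
      obtain ⟨z, rfl⟩ := (h _ (hker N hN) n).2 z
      refine ⟨s + z.comp (Ext.mk₀ (kerSeq f N).f) (add_zero n), ?_⟩
      rw [map_add]
      refine (congrArg (Φ T η X N n s + ·) ((Φ_comp_mk₀ T η X (kerSeq f N).f z).trans hz)).trans ?_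
      exact add_sub_cancel _ _

include hT in
/-- `Φ` is bijective when finitely many scalars kill `X` and `η` is invertible on what they kill. -/
theorem bijective_of_killed {X : ModuleCat.{u} A} (G : Finset A) (hX : Killed (G : Set A) X)
    (hbase : ∀ N, Killed (G : Set A) N → IsIso (η.app N)) (N : ModuleCat.{u} A) (n : ℕ) :
    Function.Bijective (Φ T η X N n) := by
  suffices key : ∀ G' : Finset A, (∀ g ∈ G', g ∈ G) → ∀ S : Set A,
      (∀ N, Killed (↑G' ∪ S) N → ∀ n, Function.Bijective (Φ T η X N n)) →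
      ∀ N, Killed S N → ∀ n, Function.Bijective (Φ T η X N n) from
    key G (fun _ => id) ∅ (fun N hN n => by
      have := hbase N fun g hg => hN g (Or.inl hg)
      refine Function.bijective_iff_has_inverse.2 ⟨fun e => e.comp (Ext.mk₀ (inv (η.app N))) (add_zero n),
        fun e => ?_, fun e => ?_⟩
      · change (e.comp (Ext.mk₀ (η.app N)) (add_zero n)).comp (Ext.mk₀ (inv (η.app N))) (add_zero n) = e
        rw [Ext.comp_assoc_of_second_deg_zero, Ext.mk₀_comp_mk₀, IsIso.hom_inv_id]
        exact Ext.comp_mk₀_id e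
      · change (e.comp (Ext.mk₀ (inv (η.app N))) (add_zero n)).comp (Ext.mk₀ (η.app N)) (add_zero n) = e
        rw [Ext.comp_assoc_of_second_deg_zero, Ext.mk₀_comp_mk₀, IsIso.inv_hom_id, Ext.comp_mk₀_id])
      N (fun _ hg => False.elim hg) n
  intro G'
  classical
  induction G' using Finset.induction_on with
  | empty => exact fun _ S h N hN => h N fun g hg => hN g (hg.resolve_left (by simp))
  | @insert a G' _ ih =>
    intro hsub S h N hN n
    refine bijective_step T η hT (f := a) (hX a (hsub a (Finset.mem_insert_self a G'))) S ?_ n N hN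
    refine ih (fun g hg => hsub g (Finset.mem_insert_of_mem hg)) (insert a S) fun N hN => h N fun g hg => hN g ?_
    rcases hg with hg | hg
    · rcases Finset.mem_insert.1 hg with rfl | hg
      · exact Or.inr (Set.mem_insert _ _)
      · exact Or.inl hg
    · exact Or.inr (Set.mem_insert_of_mem _ hg)

section Sums

variable {ι : Type u} [DecidableEq ι] (F : ι → Type u) [∀ s, AddCommGroup (F s)] [∀ s, Module A (F s)]

/-- A summand. -/
noncomputable abbrev incl (s : ι) : ModuleCat.of A (F s) ⟶ ModuleCat.of A (DirectSum ι F) :=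
  ModuleCat.ofHom (DirectSum.lof A ι F s)

/-- `Ext` out of a direct sum is the product of the `Ext` groups. -/
theorem ext_directSum : ∀ (n : ℕ) (Y : ModuleCat.{u} A),
    (∀ x : ∀ s, Ext.{u} (ModuleCat.of A (F s)) Y n,
      ∃ e : Ext.{u} (ModuleCat.of A (DirectSum ι F)) Y n, ∀ s, (Ext.mk₀ (incl F s)).comp e (zero_add n) = x s) ∧
    ∀ e : Ext.{u} (ModuleCat.of A (DirectSum ι F)) Y n,
      (∀ s, (Ext.mk₀ (incl F s)).comp e (zero_add n) = 0) → e = 0 := by
  intro n
  induction n with
  | zero =>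
    intro Y
    refine ⟨fun x => ?_, fun e he => ?_⟩
    · refine ⟨Ext.mk₀ (ModuleCat.ofHom (DirectSum.toModule A ι Y fun s => (Ext.homEquiv₀ (x s)).hom)), fun s => ?_⟩
      rw [Ext.mk₀_comp_mk₀]
      conv_rhs => rw [← Ext.mk₀_homEquiv₀_apply (x s)]
      refine congrArg Ext.mk₀ (ModuleCat.hom_ext (DFunLike.ext _ _ fun y => ?_))
      simp only [ModuleCat.hom_comp, ModuleCat.hom_ofHom, LinearMap.comp_apply]
      exact DirectSum.toModule_lof A s y
    · obtain ⟨g, rfl⟩ := (Ext.mk₀_bijective _ _).2 e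
      have : g = 0 := ModuleCat.hom_ext (DirectSum.linearMap_ext A fun s => by
        have := he s
        rw [Ext.mk₀_comp_mk₀, Ext.mk₀_eq_zero_iff] at this
        exact congrArg ModuleCat.Hom.hom this)
      rw [this, Ext.mk₀_zero]
  | succ k ih =>
    intro Y
    let S : ShortComplex (ModuleCat.{u} A) :=
      ShortComplex.mk (Injective.ι Y) (cokernel.π (Injective.ι Y)) (cokernel.condition _)
    have hS : S.ShortExact :=
      { exact := ShortComplex.exact_of_g_is_cokernel _ (cokernelIsCokernel _) }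
    have : Injective S.X₂ := inferInstanceAs (Injective (Injective.under Y))
    refine ⟨fun x => ?_, fun e he => ?_⟩
    · have hx := fun s => Ext.covariant_sequence_exact₁ _ hS (x s) (Ext.eq_zero_of_injective _) (n₀ := k) rfl
      choose y hy using hx
      obtain ⟨e, he⟩ := (ih S.X₃).1 y
      refine ⟨e.comp hS.extClass rfl, fun s => ?_⟩
      rw [← hy s, ← he s]
      exact (Ext.comp_assoc (Ext.mk₀ (incl F s)) e hS.extClass (zero_add k) rfl (by omega)).symm
    · obtain ⟨y, rfl⟩ := Ext.covariant_sequence_exact₁ _ hS e (Ext.eq_zero_of_injective _) (n₀ := k) rfl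
      have hy : ∀ s, ((Ext.mk₀ (incl F s)).comp y (zero_add k)).comp hS.extClass rfl = 0 := fun s =>
        (Ext.comp_assoc (Ext.mk₀ (incl F s)) y hS.extClass (zero_add k) rfl (by omega)).trans (he s)
      have hz := fun s => Ext.covariant_sequence_exact₃ _ hS _ rfl (hy s)
      choose z hz using hz
      obtain ⟨w, hw⟩ := (ih S.X₂).1 z
      have : y - w.comp (Ext.mk₀ S.g) (add_zero k) = 0 := by
        refine (ih S.X₃).2 _ fun s => ?_
        refine (map_sub ((Ext.mk₀ (incl F s)).precomp _ (zero_add k)) _ _).trans (sub_eq_zero.2 ?_)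
        refine (hz s).symm.trans ?_
        rw [← hw s]
        exact Ext.comp_assoc_of_third_deg_zero _ _ _ _
      rw [sub_eq_zero] at this
      rw [this]
      refine (Ext.comp_assoc_of_second_deg_zero w (Ext.mk₀ S.g) hS.extClass rfl).trans ?_
      exact (congrArg (fun m => Ext.comp w m rfl) hS.comp_extClass).trans (Ext.comp_zero _ _ _ _ _)

omit [T.Additive] [PreservesFiniteLimits T] [PreservesFiniteColimits T] in
theorem bijective_directSum (N : ModuleCat.{u} A) (n : ℕ)
    (h : ∀ s, Function.Bijective (Φ T η (ModuleCat.of A (F s)) N n)) :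
    Function.Bijective (Φ T η (ModuleCat.of A (DirectSum ι F)) N n) := by
  refine ⟨(injective_iff_map_eq_zero _).2 fun e he => (ext_directSum F n N).2 e fun s => (h s).1 ?_, fun v => ?_⟩
  · rw [Φ_precomp T η, he, Ext.comp_zero, map_zero]
  · have hx := fun s => (h s).2 ((Ext.mk₀ (incl F s)).comp v (zero_add n))
    choose x hx using hx
    obtain ⟨e, he⟩ := (ext_directSum F n N).1 x
    refine ⟨e, sub_eq_zero.1 ((ext_directSum F n _).2 _ fun s => ?_)⟩
    refine (map_sub ((Ext.mk₀ (incl F s)).precomp _ (zero_add n)) _ _).trans (sub_eq_zero.2 ?_)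
    change (Ext.mk₀ (incl F s)).comp (Φ T η _ N n e) (zero_add n) = _
    rw [← Φ_precomp T η, he s]
    exact hx s

end Sums

omit [T.Additive] [PreservesFiniteLimits T] [PreservesFiniteColimits T] in
/-- Resolving on the source: a class closed under kernels, each member a quotient of a good member. -/
theorem bijective_of_cover (C : ModuleCat.{u} A → Prop) (N : ModuleCat.{u} A)
    (hcover : ∀ M, C M → ∃ S : ShortComplex (ModuleCat.{u} A), S.ShortExact ∧ S.X₃ = M ∧ C S.X₁ ∧
      ∀ n, Function.Bijective (Φ T η S.X₂ N n)) :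
    ∀ (n : ℕ) (M : ModuleCat.{u} A), C M → Function.Bijective (Φ T η M N n) := by
  intro n
  induction n using Nat.strong_induction_on with
  | _ n ih =>
    have hinj : ∀ M, C M → Function.Injective (Φ T η M N n) := by
      intro M hM
      obtain ⟨S, hS, rfl, hK, hP⟩ := hcover M hM
      refine (injective_iff_map_eq_zero _).2 fun x hx => ?_
      have h2 : (Ext.mk₀ S.g).comp x (zero_add n) = 0 := by
        apply (hP n).1
        rw [Φ_precomp T η, hx, Ext.comp_zero, map_zero]
      cases n with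
      | zero =>
        have := hS.epi_g
        exact Ext.precomp_mk₀_injective_of_epi N S.g (h2.trans (map_zero _).symm)
      | succ k =>
        obtain ⟨y, hy⟩ := Ext.contravariant_sequence_exact₃ hS N x h2 (n₀ := k) (by omega)
        have h3 : hS.extClass.comp (Φ T η S.X₁ N k y) (by omega : 1 + k = k + 1) = 0 := by
          rw [← Φ_precomp T η, hy, hx]
        obtain ⟨z, hz⟩ := Ext.contravariant_sequence_exact₁ hS _ _ _ h3
        obtain ⟨z, rfl⟩ := (hP k).2 z
        rw [← hy, ← (ih k k.lt_succ_self S.X₁ hK).1 ((Φ_precomp T η _ N _ z).trans hz)]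
        exact hS.extClass_comp_assoc z
    intro M hM
    refine ⟨hinj M hM, fun v => ?_⟩
    obtain ⟨S, hS, rfl, hK, hP⟩ := hcover M hM
    obtain ⟨p, hp⟩ := (hP n).2 ((Ext.mk₀ S.g).comp v (zero_add n))
    have h4 : (Ext.mk₀ S.f).comp p (zero_add n) = 0 := by
      apply hinj S.X₁ hK
      rw [Φ_precomp T η, hp, map_zero, Ext.mk₀_comp_mk₀_assoc, S.zero, Ext.mk₀_zero, Ext.zero_comp]
    obtain ⟨x, hx⟩ := Ext.contravariant_sequence_exact₂ hS N p h4
    have h5 : (Ext.mk₀ S.g).comp (v - Φ T η S.X₃ N n x) (zero_add n) = 0 := by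
      refine (map_sub ((Ext.mk₀ S.g).precomp _ (zero_add n)) _ _).trans (sub_eq_zero.2 ?_)
      change (Ext.mk₀ S.g).comp v (zero_add n) = (Ext.mk₀ S.g).comp (Φ T η S.X₃ N n x) (zero_add n)
      rw [← Φ_precomp T η, hx, hp]
    cases n with
    | zero =>
      have := hS.epi_g
      exact ⟨x, (sub_eq_zero.1 (Ext.precomp_mk₀_injective_of_epi (T.obj N) S.g (h5.trans (map_zero _).symm))).symm⟩
    | succ k =>
      obtain ⟨y, hy⟩ := Ext.contravariant_sequence_exact₃ hS _ _ h5 (n₀ := k) (by omega)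
      obtain ⟨y, rfl⟩ := (ih k k.lt_succ_self S.X₁ hK).2 y
      refine ⟨x + hS.extClass.comp y (by omega), ?_⟩
      rw [map_add, Φ_precomp T η, hy]
      exact add_sub_cancel _ _

end GrothLib.TorExt
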